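import Mathlib.AlgebraicGeometry.AffineScheme
import Mathlib.AlgebraicGeometry.Properties
import Mathlib.AlgebraicGeometry.FunctionField
import Mathlib.AlgebraicGeometry.Pullbacks
import Mathlib.AlgebraicGeometry.PullbackCarrier
import Mathlib.AlgebraicGeometry.Morphisms.OpenImmersion
import Mathlib.Algebra.MonoidAlgebra.NoZeroDivisors
import Mathlib.Algebra.Group.UniqueProds.Basic

/-!
# Units on the product of an integral scheme with a split torus
-/

set_option autoImplicit false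
set_option linter.style.haveILetI false
set_option backward.isDefEq.respectTransparency.types false

noncomputable section

universe u

open CategoryTheory CategoryTheory.Limits AlgebraicGeometry TopologicalSpace Opposite

namespace Groth.Agent.H23TorusUnits

/-- A unit of a monoid algebra over a domain, with exponents having two unique sums, is a monomial. -/
theorem exists_single_of_isUnit {R M : Type*} [CommRing R] [IsDomain R] [AddCommMonoid M] [TwoUniqueSums M]
    {f : AddMonoidAlgebra R M} (hf : IsUnit f) : ∃ (m : M) (a : R), IsUnit a ∧ f = AddMonoidAlgebra.single m a := by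
  classical
  obtain ⟨g, hg⟩ := hf.exists_right_inv
  have hcard : ¬ 1 < f.coeff.support.card * g.coeff.support.card := by
    intro h
    obtain ⟨p, hp, q, hq, hne, hpu, hqu⟩ := TwoUniqueSums.uniqueAdd_of_one_lt_card h
    have key : ∀ r : M × M, r ∈ f.coeff.support ×ˢ g.coeff.support →
        UniqueAdd f.coeff.support g.coeff.support r.1 r.2 → r.1 + r.2 = 0 := by
      intro r hr hu
      by_contra h0
      have h1 := AddMonoidAlgebra.coeff_mul_add_of_uniqueAdd hu
      rw [hg, AddMonoidAlgebra.one_def, AddMonoidAlgebra.coeff_single,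
        Finsupp.single_eq_of_ne h0] at h1
      rw [Finset.mem_product] at hr
      exact mul_ne_zero (Finsupp.mem_support_iff.1 hr.1) (Finsupp.mem_support_iff.1 hr.2) h1.symm
    rw [Finset.mem_product] at hp hq
    obtain ⟨h1, h2⟩ := hpu hq.1 hq.2
      ((key q (Finset.mem_product.2 hq) hqu).trans (key p (Finset.mem_product.2 hp) hpu).symm)
    exact hne (Prod.ext h1.symm h2.symm)
  have hf0 : f.coeff.support.card ≠ 0 := fun h => by
    have : f = 0 := by
      apply AddMonoidAlgebra.coeff_injective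
      rw [Finset.card_eq_zero, Finsupp.support_eq_empty] at h
      exact h.trans (AddMonoidAlgebra.coeff_zero).symm
    exact one_ne_zero (hg.symm.trans (by rw [this, zero_mul]))
  have hg0 : g.coeff.support.card ≠ 0 := fun h => by
    have : g = 0 := by
      apply AddMonoidAlgebra.coeff_injective
      rw [Finset.card_eq_zero, Finsupp.support_eq_empty] at h
      exact h.trans (AddMonoidAlgebra.coeff_zero).symm
    exact one_ne_zero (hg.symm.trans (by rw [this, mul_zero]))
  have hf1 : f.coeff.support.card = 1 := by nlinarith [Nat.pos_of_ne_zero hf0, Nat.pos_of_ne_zero hg0]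
  have hg1 : g.coeff.support.card = 1 := by nlinarith [Nat.pos_of_ne_zero hf0, Nat.pos_of_ne_zero hg0]
  obtain ⟨m, a, ha, hfe⟩ := Finsupp.card_support_eq_one'.1 hf1
  obtain ⟨m', b, hb, hge⟩ := Finsupp.card_support_eq_one'.1 hg1
  have hfe' : f = AddMonoidAlgebra.single m a :=
    AddMonoidAlgebra.coeff_injective (hfe.trans (AddMonoidAlgebra.coeff_single m a).symm)
  have hge' : g = AddMonoidAlgebra.single m' b :=
    AddMonoidAlgebra.coeff_injective (hge.trans (AddMonoidAlgebra.coeff_single m' b).symm)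
  rw [hfe', hge', AddMonoidAlgebra.single_mul_single, AddMonoidAlgebra.one_def] at hg
  have h2 := congrArg (fun x : AddMonoidAlgebra R M => x.coeff 0) hg
  simp only [AddMonoidAlgebra.coeff_single, Finsupp.single_eq_same] at h2
  rcases eq_or_ne (m + m') 0 with h0 | h0
  · rw [h0, Finsupp.single_eq_same] at h2
    exact ⟨m, a, IsUnit.of_mul_eq_one _ h2, hfe'⟩
  · rw [Finsupp.single_eq_of_ne (Ne.symm h0)] at h2
    exact absurd h2 zero_ne_one

variable (M : Type) [AddCommGroup M]

/-- The coordinate ring of the torus. -/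
abbrev TR : CommRingCat.{u} := CommRingCat.of (ULift.{u} (AddMonoidAlgebra ℤ M))

/-- The torus. -/
abbrev Tor : Scheme.{u} := Spec (TR.{u} M)

variable (X : Scheme.{u})

/-- The product. -/
abbrev P : Scheme.{u} := X ⨯ Tor.{u} M

/-- `A[M]` -/
abbrev AM (A : CommRingCat.{u}) : CommRingCat.{u} := CommRingCat.of (AddMonoidAlgebra A M)

/-- The constants. -/
def cst (A : CommRingCat.{u}) : A ⟶ AM M A := CommRingCat.ofHom AddMonoidAlgebra.singleZeroRingHom

/-- Change of coefficients. -/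
def tor (A : CommRingCat.{u}) : TR.{u} M ⟶ AM M A :=
  CommRingCat.ofHom ((AddMonoidAlgebra.mapRingHom M (Int.castRingHom A)).comp ULift.ringEquiv.toRingHom)

theorem tor_single (A : CommRingCat.{u}) (m : M) :
    tor M A (ULift.up (AddMonoidAlgebra.single m 1)) = AddMonoidAlgebra.single m 1 := by
  show AddMonoidAlgebra.mapRingHom M (Int.castRingHom A) (AddMonoidAlgebra.single m 1) = _
  rw [AddMonoidAlgebra.mapRingHom_single, map_one]

variable {X}

/-- The chart of the product over an affine open. -/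
def chart {W : X.Opens} (hW : IsAffineOpen W) : Spec (AM M Γ(X, W)) ⟶ P M X :=
  prod.lift (Spec.map (cst M Γ(X, W)) ≫ hW.fromSpec) (Spec.map (tor M Γ(X, W)))

theorem chart_fst {W : X.Opens} (hW : IsAffineOpen W) :
    chart M hW ≫ prod.fst = Spec.map (cst M Γ(X, W)) ≫ hW.fromSpec := prod.lift_fst _ _

theorem chart_snd {W : X.Opens} (hW : IsAffineOpen W) :
    chart M hW ≫ prod.snd = Spec.map (tor M Γ(X, W)) := prod.lift_snd _ _

/-- Morphisms to a spectrum are given by their effect on global sections. -/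
theorem toSpecΓ_map {Z : Scheme.{u}} {R : CommRingCat.{u}} (g : Z ⟶ Spec R) :
    Z.toSpecΓ ≫ Spec.map ((Scheme.ΓSpecIso R).inv ≫ g.appTop) = g := by
  rw [Spec.map_comp, ← Scheme.toSpecΓ_naturality_assoc, ← SpecMap_ΓSpecIso_hom, ← Spec.map_comp,
    Iso.inv_hom_id, Spec.map_id, Category.comp_id]

theorem inv_appTop_comp {Z : Scheme.{u}} {R S : CommRingCat.{u}} (φ : R ⟶ S) (l : Z ⟶ Spec S) :
    (Scheme.ΓSpecIso R).inv ≫ (l ≫ Spec.map φ).appTop = φ ≫ (Scheme.ΓSpecIso S).inv ≫ l.appTop := by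
  rw [Scheme.Hom.comp_appTop, ← Category.assoc, ← Scheme.ΓSpecIso_inv_naturality, Category.assoc]

theorem isPullback_chart {W : X.Opens} (hW : IsAffineOpen W) :
    IsPullback (chart M hW) (Spec.map (cst M Γ(X, W))) (prod.fst : P M X ⟶ X) hW.fromSpec := by
  let A : CommRingCat.{u} := Γ(X, W)
  refine ⟨⟨chart_fst M hW⟩, ⟨?_⟩⟩
  refine PullbackCone.IsLimit.mk (chart_fst M hW)
    (fun s => s.pt.toSpecΓ ≫ Spec.map (CommRingCat.ofHom (AddMonoidAlgebra.liftNCRingHom
      ((Scheme.ΓSpecIso A).inv ≫ s.snd.appTop).hom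
      ((((Scheme.ΓSpecIso (TR.{u} M)).inv ≫ (s.fst ≫ prod.snd).appTop).hom.comp
        ULift.ringEquiv.symm.toRingHom).toMonoidHom.comp (AddMonoidAlgebra.of ℤ M))
      (fun _ _ => Commute.all _ _)))) ?_ ?_ ?_
  · intro s
    have hsnd : ∀ φ : AM M A ⟶ Γ(s.pt, ⊤), cst M A ≫ φ = (Scheme.ΓSpecIso A).inv ≫ s.snd.appTop →
        (s.pt.toSpecΓ ≫ Spec.map φ) ≫ Spec.map (cst M A) = s.snd := fun φ hφ => by
      rw [Category.assoc, ← Spec.map_comp, hφ, toSpecΓ_map]
    refine prod.hom_ext ?_ ?_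
    · rw [Category.assoc, chart_fst, ← Category.assoc, hsnd _ ?_]
      · exact s.condition.symm
      · ext a
        refine (AddMonoidAlgebra.liftNCRingHom_single _ _ (fun _ _ => Commute.all _ _) _ _).trans ?_
        simp [← AddMonoidAlgebra.one_def]
    · rw [Category.assoc, chart_snd, Category.assoc, ← Spec.map_comp]
      conv_rhs => rw [← toSpecΓ_map (s.fst ≫ prod.snd)]
      congr 2
      ext1
      let β := ((Scheme.ΓSpecIso (TR.{u} M)).inv ≫ (s.fst ≫ prod.snd).appTop).hom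
      suffices h : (RingHom.comp _ (AddMonoidAlgebra.mapRingHom M (Int.castRingHom A))) =
          β.comp ULift.ringEquiv.symm.toRingHom by
        refine RingHom.ext fun x => ?_
        exact RingHom.congr_fun h (ULift.ringEquiv x)
      refine AddMonoidAlgebra.ringHom_ext' (Subsingleton.elim _ _) (MonoidHom.ext fun m => ?_)
      show AddMonoidAlgebra.liftNCRingHom _ _ (fun _ _ => Commute.all _ _)
        (AddMonoidAlgebra.mapRingHom M (Int.castRingHom A) (AddMonoidAlgebra.single m.toAdd 1)) = _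
      rw [AddMonoidAlgebra.mapRingHom_single, map_one, AddMonoidAlgebra.liftNCRingHom_single, map_one, one_mul]
      rfl
  · intro s
    rw [Category.assoc, ← Spec.map_comp]
    convert toSpecΓ_map s.snd using 3
    ext a
    refine (AddMonoidAlgebra.liftNCRingHom_single _ _ (fun _ _ => Commute.all _ _) _ _).trans ?_
    simp [← AddMonoidAlgebra.one_def]
    rfl
  · intro s l h1 h2
    rw [← toSpecΓ_map l]
    congr 2
    ext1
    refine AddMonoidAlgebra.ringHom_ext' (RingHom.ext fun a => ?_) (MonoidHom.ext fun m => ?_)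
    · show _ = AddMonoidAlgebra.liftNCRingHom _ _ (fun _ _ => Commute.all _ _) (AddMonoidAlgebra.single 0 a)
      rw [AddMonoidAlgebra.liftNCRingHom_single, ← h2, inv_appTop_comp, ofAdd_zero, map_one, mul_one]
      rfl
    · show _ = AddMonoidAlgebra.liftNCRingHom _ _ (fun _ _ => Commute.all _ _) (AddMonoidAlgebra.single m.toAdd 1)
      rw [AddMonoidAlgebra.liftNCRingHom_single, map_one, one_mul]
      have h3 : (Scheme.ΓSpecIso (TR.{u} M)).inv ≫ (s.fst ≫ prod.snd).appTop =
          tor M A ≫ (Scheme.ΓSpecIso (AM M A)).inv ≫ l.appTop := by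
        rw [← inv_appTop_comp, ← h1, Category.assoc, chart_snd]
      rw [h3]
      show _ = ((Scheme.ΓSpecIso (AM M A)).inv ≫ l.appTop) (tor M A (ULift.up (AddMonoidAlgebra.single m.toAdd 1)))
      rw [tor_single]
      rfl

instance {W : X.Opens} (hW : IsAffineOpen W) : IsOpenImmersion (chart M hW) :=
  MorphismProperty.of_isPullback (isPullback_chart M hW).flip (inferInstanceAs (IsOpenImmersion hW.fromSpec))

theorem le_preimage_chart {W : X.Opens} (hW : IsAffineOpen W) :
    (⊤ : (Spec (AM M Γ(X, W))).Opens) ≤ chart M hW ⁻¹ᵁ ((prod.fst : P M X ⟶ X) ⁻¹ᵁ W) := fun v _ => by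
  rw [← Scheme.Hom.comp_preimage, chart_fst]
  have h : hW.fromSpec (Spec.map (cst M Γ(X, W)) v) ∈ Set.range hW.fromSpec := ⟨_, rfl⟩
  rw [hW.range_fromSpec] at h
  exact h

/-- Sections over the preimage of an affine open, as elements of the monoid algebra. -/
def rho {W : X.Opens} (hW : IsAffineOpen W) :
    Γ(P M X, (prod.fst : P M X ⟶ X) ⁻¹ᵁ W) ⟶ AM M Γ(X, W) :=
  (chart M hW).appLE _ ⊤ (le_preimage_chart M hW) ≫ (Scheme.ΓSpecIso (AM M Γ(X, W))).hom

theorem rho_injective {W : X.Opens} (hW : IsAffineOpen W) : Function.Injective (rho M hW) := by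
  have hrange : (prod.fst : P M X ⟶ X) ⁻¹ᵁ W ≤ (chart M hW).opensRange := fun y hy => by
    obtain ⟨w, hw⟩ : (prod.fst : P M X ⟶ X) y ∈ Set.range hW.fromSpec := by rw [hW.range_fromSpec]; exact hy
    obtain ⟨v, hv, -⟩ := Scheme.Pullback.exists_preimage_pullback
      (f := (prod.fst : P M X ⟶ X)) (g := hW.fromSpec) y w hw.symm
    refine ⟨(isPullback_chart M hW).isoPullback.inv v, ?_⟩
    rw [← Scheme.Hom.comp_apply, (isPullback_chart M hW).isoPullback_inv_fst]
    exact hv
  haveI := (chart M hW).isIso_app _ hrange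
  haveI : IsIso ((Spec (AM M Γ(X, W))).presheaf.map (homOfLE (le_preimage_chart M hW)).op) := by
    rw [show (homOfLE (le_preimage_chart M hW)) = eqToHom (top_le_iff.1 (le_preimage_chart M hW)).symm
      from Subsingleton.elim _ _]
    infer_instance
  haveI : IsIso (rho M hW) := by
    rw [rho, Scheme.Hom.appLE]
    infer_instance
  exact (ConcreteCategory.bijective_of_isIso (rho M hW)).1

theorem rho_fst {W : X.Opens} (hW : IsAffineOpen W) (a : Γ(X, W)) :
    rho M hW ((prod.fst : P M X ⟶ X).app W a) = AddMonoidAlgebra.single 0 a := by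
  have h1 : hW.fromSpec.appLE W ⊤ (hW.fromSpec_preimage_self.ge) = (Scheme.ΓSpecIso Γ(X, W)).inv := by
    rw [Scheme.Hom.appLE, hW.fromSpec_app_self]
    simp [← Functor.map_comp, Category.assoc]
  have h2 : (prod.fst : P M X ⟶ X).app W ≫ rho M hW = cst M Γ(X, W) := by
    have h3 : (prod.fst : P M X ⟶ X).app W ≫ (chart M hW).appLE _ ⊤ (le_preimage_chart M hW) =
        hW.fromSpec.appLE W ⊤ (hW.fromSpec_preimage_self.ge) ≫ (Spec.map (cst M Γ(X, W))).appTop := by
      rw [Scheme.Hom.app_eq_appLE, Scheme.Hom.appLE_comp_appLE,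
        show (Spec.map (cst M Γ(X, W))).appTop = (Spec.map (cst M Γ(X, W))).appLE ⊤ ⊤ le_top from
          Scheme.Hom.app_eq_appLE _,
        Scheme.Hom.appLE_comp_appLE]
      simp only [chart_fst]
    rw [rho, reassoc_of% h3, h1, Scheme.ΓSpecIso_naturality, Iso.inv_hom_id_assoc]
  exact ConcreteCategory.congr_hom h2 a

theorem rho_res {W : X.Opens} (hW : IsAffineOpen W) (f : Γ(Tor.{u} M, ⊤)) (h : (prod.fst : P M X ⟶ X) ⁻¹ᵁ W ≤ ⊤) :
    rho M hW ((P M X).presheaf.map (homOfLE h).op ((prod.snd : P M X ⟶ Tor.{u} M).appTop f)) =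
      tor M Γ(X, W) ((Scheme.ΓSpecIso (TR.{u} M)).hom f) := by
  have h2 : (prod.snd : P M X ⟶ Tor.{u} M).appTop ≫ (P M X).presheaf.map (homOfLE h).op ≫ rho M hW =
      (Scheme.ΓSpecIso (TR.{u} M)).hom ≫ tor M Γ(X, W) := by
    rw [rho, Scheme.Hom.map_appLE_assoc, ← Category.assoc,
      show (prod.snd : P M X ⟶ Tor.{u} M).appTop = (prod.snd : P M X ⟶ Tor.{u} M).appLE ⊤ ⊤ le_top from
          Scheme.Hom.app_eq_appLE _,
      Scheme.Hom.appLE_comp_appLE, ← Scheme.ΓSpecIso_naturality]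
    simp only [chart_snd]
    congr 1
  exact ConcreteCategory.congr_hom h2 f

/-- The monomial as a global function. -/
def mono (X : Scheme.{u}) (m : M) : Γ(P M X, ⊤) :=
  (prod.snd : P M X ⟶ Tor.{u} M).appTop
    ((Scheme.ΓSpecIso (TR.{u} M)).inv (ULift.up (AddMonoidAlgebra.single m 1)))

theorem rho_mono {W : X.Opens} (hW : IsAffineOpen W) (m : M) (a : Γ(X, W)) :
    rho M hW ((prod.fst : P M X ⟶ X).app W a *
      (P M X).presheaf.map (homOfLE (le_top : (prod.fst : P M X ⟶ X) ⁻¹ᵁ W ≤ ⊤)).op (mono M X m)) =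
      AddMonoidAlgebra.single m a := by
  rw [map_mul, rho_fst, mono, rho_res M hW]
  rw [Iso.inv_hom_id_apply, tor_single]
  erw [AddMonoidAlgebra.single_mul_single]
  rw [zero_add, mul_one]

/-- Sections on the preimage of a smaller open. -/
theorem res_app {U V : X.Opens} (h : V ≤ U) (a : Γ(X, U)) :
    (P M X).presheaf.map (homOfLE ((prod.fst : P M X ⟶ X).preimage_mono h)).op ((prod.fst : P M X ⟶ X).app U a) =
      (prod.fst : P M X ⟶ X).app V (X.presheaf.map (homOfLE h).op a) :=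
  (ConcreteCategory.congr_hom ((prod.fst : P M X ⟶ X).naturality (homOfLE h).op) a).symm

theorem res_res {Y : Scheme.{u}} {U V W : Y.Opens} (h1 : V ≤ U) (h2 : W ≤ V) (a : Γ(Y, U)) :
    Y.presheaf.map (homOfLE h2).op (Y.presheaf.map (homOfLE h1).op a) =
      Y.presheaf.map (homOfLE (h2.trans h1)).op a := by
  rw [← CommRingCat.comp_apply, ← Functor.map_comp]
  rfl

variable [TwoUniqueSums M] [IsIntegral X]

/-- The local shape of `v`. -/
def Shape (v : Γ(P M X, ⊤)) (W : X.Opens) (m : M) (a : Γ(X, W)) : Prop :=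
  (P M X).presheaf.map (homOfLE (le_top : (prod.fst : P M X ⟶ X) ⁻¹ᵁ W ≤ ⊤)).op v =
    (prod.fst : P M X ⟶ X).app W a *
      (P M X).presheaf.map (homOfLE (le_top : (prod.fst : P M X ⟶ X) ⁻¹ᵁ W ≤ ⊤)).op (mono M X m)

omit [TwoUniqueSums M] [IsIntegral X] in
theorem Shape.res {v : Γ(P M X, ⊤)} {U V : X.Opens} {m : M} {a : Γ(X, U)} (hs : Shape M v U m a) (h : V ≤ U) :
    Shape M v V m (X.presheaf.map (homOfLE h).op a) := by
  have := congrArg ((P M X).presheaf.map (homOfLE ((prod.fst : P M X ⟶ X).preimage_mono h)).op) hs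
  rw [res_res, map_mul, res_app, res_res] at this
  exact this

omit [TwoUniqueSums M] in
theorem Shape.unique {v : Γ(P M X, ⊤)} {U V : X.Opens} {m n : M} {a : Γ(X, U)} {b : Γ(X, V)}
    (hUV : (U ⊓ V : X.Opens) ≠ ⊥) (ha : IsUnit a) (hs : Shape M v U m a) (ht : Shape M v V n b) :
    m = n ∧ X.presheaf.map (homOfLE (inf_le_left : U ⊓ V ≤ U)).op a =
      X.presheaf.map (homOfLE (inf_le_right : U ⊓ V ≤ V)).op b := by
  obtain ⟨x, hx⟩ := (Opens.ne_bot_iff_nonempty _).1 hUV
  obtain ⟨_, ⟨W, hW, rfl⟩, hxW, hWle⟩ := X.isBasis_affineOpens.exists_subset_of_mem_open hx (U ⊓ V).isOpen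
  have hle : W ≤ U ⊓ V := hWle
  have h1 := congrArg (rho M hW) ((hs.res M (hle.trans inf_le_left)).symm.trans (ht.res M (hle.trans inf_le_right)))
  rw [rho_mono, rho_mono] at h1
  haveI : Nonempty (Scheme.Opens.toScheme (X := X) W) := ⟨⟨x, hxW⟩⟩
  have hne : X.presheaf.map (homOfLE (hle.trans inf_le_left)).op a ≠ 0 :=
    (ha.map (X.presheaf.map (homOfLE (hle.trans inf_le_left)).op).hom).ne_zero
  have h2 := congrArg (fun z : AM M Γ(X, W) => z.coeff) h1
  simp only [AddMonoidAlgebra.coeff_single] at h2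
  rcases Finsupp.single_eq_single_iff _ _ _ _ |>.1 h2 with ⟨h3, h4⟩ | ⟨h3, -⟩
  · refine ⟨h3, map_injective_of_isIntegral X (homOfLE hle) ?_⟩
    rw [res_res, res_res]
    exact h4
  · exact absurd h3 hne

theorem exists_shape {v : Γ(P M X, ⊤)} (hv : IsUnit v) {W : X.Opens} (hW : IsAffineOpen W) [Nonempty W.toScheme] :
    ∃ (m : M) (a : Γ(X, W)), IsUnit a ∧ Shape M v W m a := by
  obtain ⟨m, a, ha, he⟩ := exists_single_of_isUnit
    ((hv.map ((P M X).presheaf.map (homOfLE (le_top : (prod.fst : P M X ⟶ X) ⁻¹ᵁ W ≤ ⊤)).op).hom).map (rho M hW).hom)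
  exact ⟨m, a, ha, rho_injective M hW (he.trans (rho_mono M hW m a).symm)⟩

/-- Units of `X × T`. -/
theorem existsUnique_unit (v : Γ(P M X, ⊤)) (hv : IsUnit v) :
    ∃! p : (Γ(X, ⊤))ˣ × M, v = (prod.fst : P M X ⟶ X).appTop (p.1 : Γ(X, ⊤)) * mono M X p.2 := by
  have hcov : ∀ x : X, ∃ W : X.Opens, IsAffineOpen W ∧ x ∈ W := fun x => by
    obtain ⟨_, ⟨W, hW, rfl⟩, hxW, -⟩ := X.isBasis_affineOpens.exists_subset_of_mem_open (Set.mem_univ x) isOpen_univ
    exact ⟨W, hW, hxW⟩
  choose W hW hxW using hcov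
  have hne : ∀ x, Nonempty (W x).toScheme := fun x => ⟨⟨x, hxW x⟩⟩
  have hshape : ∀ x, ∃ (m : M) (a : Γ(X, W x)), IsUnit a ∧ Shape M v (W x) m a := fun x =>
    haveI := hne x; exists_shape M hv (hW x)
  choose e a ha hs using hshape
  have hinf : ∀ x y, (W x ⊓ W y : X.Opens) ≠ ⊥ := fun x y => (Opens.ne_bot_iff_nonempty _).2
    (nonempty_preirreducible_inter (W x).isOpen (W y).isOpen ⟨x, hxW x⟩ ⟨y, hxW y⟩)
  obtain ⟨x₀⟩ := (inferInstance : Nonempty X)
  have htop : (⊤ : X.Opens) ≤ iSup W := fun x _ => Opens.mem_iSup.2 ⟨x, hxW x⟩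
  obtain ⟨u, hu, -⟩ := X.sheaf.existsUnique_gluing' W ⊤ (fun x => homOfLE le_top) htop a
    (fun x y => ((Shape.unique M (hinf x y) (ha x) (hs x) (hs y))).2)
  have hu' : ∀ x, X.presheaf.map (homOfLE (le_top : W x ≤ ⊤)).op u = a x := hu
  have huu : IsUnit u := X.toRingedSpace.isUnit_of_isUnit_germ ⊤ u fun x _ => by
    have := (ha x).map (X.presheaf.germ (W x) x (hxW x)).hom
    rw [← hu' x, X.presheaf.germ_res_apply] at this
    exact this
  have hglob : v = (prod.fst : P M X ⟶ X).appTop u * mono M X (e x₀) := by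
    refine (P M X).sheaf.eq_of_locally_eq' (fun x => (prod.fst : P M X ⟶ X) ⁻¹ᵁ W x) ⊤
      (fun x => homOfLE le_top) (fun y _ => ?_) _ _ fun x => ?_
    · exact Opens.mem_iSup.2 ⟨(prod.fst : P M X ⟶ X) y, hxW _⟩
    · have he : e x = e x₀ := (Shape.unique M (hinf x x₀) (ha x) (hs x) (hs x₀)).1
      refine (hs x).trans ?_
      rw [he, ← hu' x, ← res_app M le_top u]
      exact (map_mul ((P M X).presheaf.map (homOfLE (le_top : (prod.fst : P M X ⟶ X) ⁻¹ᵁ W x ≤ ⊤)).op).hom _ _).symm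
  refine ⟨(huu.unit, e x₀), hglob, fun q hq => ?_⟩
  obtain ⟨w, m⟩ := q
  have key : ∀ (z : Γ(X, ⊤)) (n : M), v = (prod.fst : P M X ⟶ X).appTop z * mono M X n → ∀ x,
      Shape M v (W x) n (X.presheaf.map (homOfLE (le_top : W x ≤ ⊤)).op z) := fun z n hz x => by
    rw [Shape, hz, map_mul]
    congr 1
    exact res_app M le_top z
  have h1 := Shape.unique M (hinf x₀ x₀) ((w.isUnit).map (X.presheaf.map (homOfLE (le_top : W x₀ ≤ ⊤)).op).hom)
    (key w m hq x₀) (key u (e x₀) hglob x₀)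
  haveI : Nonempty (W x₀ ⊓ W x₀ : X.Opens).toScheme := ⟨⟨x₀, hxW x₀, hxW x₀⟩⟩
  have h2 := h1.2
  rw [res_res, res_res] at h2
  exact Prod.ext (Units.ext (map_injective_of_isIntegral X _ h2)) h1.1

end Groth.Agent.H23TorusUnits
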